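/-
Helper94, project S5655 part 2 (unitary decompositions with blocks of dimension `k ≥ 2`): core
definitions.  Abstract hermitian space `(V, h)` over `K` with involution `σ` (`HermData σ h` of
`UnitBasic`), a decomposition `D` into pairwise orthogonal non-degenerate subspaces of dimension `k`
(`UCtx`), and for a subgroup `M` of `V ≃ₗ[K] V` the set `UXa hH M` of isotropic centres all of whose
unitary transvections lie in `M`.
-/
import Mathlib
import Cfsg.Agent.Lib.Helper94.UnitBasic
import Cfsg.Agent.Lib.Helper94.Blk.Core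

set_option autoImplicit false
set_option linter.unusedSectionVars false
set_option linter.unusedVariables false
set_option linter.unusedSimpArgs false

namespace Cfsg.Agent.Lib.Helper94.UDec

open Cfsg.Agent.Lib.Helper94 Cfsg.Agent.Lib.Helper94.SympData

variable {K V : Type*} [Field K] [AddCommGroup V] [Module K V]
variable {σ : K →+* K} {h : V → V → K}

/-- isotropic centres all of whose unitary transvections lie in `M` -/
def UXa (hH : HermData σ h) (M : Subgroup (V ≃ₗ[K] V)) : Set V :=
  {v | ∃ hv : h v v = 0, ∀ c : K, c + σ c = 0 → hH.utv v c hv ∈ M}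

/-- the field and form part of the standing hypotheses: hermitian form for an involution `σ` of a
(finite) field with surjective trace and norm and a non-zero element of trace zero -/
structure FCtx (σ : K →+* K) (h : V → V → K) : Prop where
  herm : HermData σ h
  invol : ∀ a, σ (σ a) = a
  tr_surj : ∀ a, σ a = a → ∃ c, c + σ c = a
  nm_surj : ∀ a, σ a = a → ∃ c, c * σ c = a
  tz : ∃ c : K, c ≠ 0 ∧ c + σ c = 0

/-- the form is non-degenerate on the subspace `W` -/
def NdOn (h : V → V → K) (W : Submodule K V) : Prop := ∀ u ∈ W, (∀ v ∈ W, h u v = 0) → u = 0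

/-- the standing hypotheses: `FCtx` and an orthogonal decomposition into non-degenerate subspaces of
dimension `k ≥ 2` -/
structure UCtx (σ : K →+* K) (h : V → V → K) {t : ℕ} (k : ℕ) (D : Fin t → Submodule K V) : Prop
    extends FCtx σ h where
  ld : LDecomp k D
  orth : ∀ i j, i ≠ j → ∀ u ∈ D i, ∀ v ∈ D j, h u v = 0
  nd : ∀ i, NdOn h (D i)
  two_le : 2 ≤ k

/-- the group `H`: the isometries of determinant one permuting the members of `D` -/
noncomputable abbrev HG (h : V → V → K) {t : ℕ} (D : Fin t → Submodule K V) : Subgroup (V ≃ₗ[K] V) :=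
  stabDec D ⊓ (UG h ⊓ SLe K V)

section herm

variable (hH : HermData σ h)
include hH

lemma h_neg_left (x y : V) : h (-x) y = -h x y := by
  have := hH.smul_left (-1) x y
  simpa using this

lemma h_neg_right (x y : V) : h x (-y) = -h x y := by
  have := hH.smul_right (-1) x y
  simpa using this

lemma h_sub_left (x y z : V) : h (x - y) z = h x z - h y z := by
  rw [sub_eq_add_neg, hH.add_left, h_neg_left hH, ← sub_eq_add_neg]

lemma h_sub_right (x y z : V) : h x (y - z) = h x y - h x z := by
  rw [sub_eq_add_neg, hH.add_right, h_neg_right hH, ← sub_eq_add_neg]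

lemma h_sum_left {ι : Type*} (s : Finset ι) (f : ι → V) (y : V) :
    h (∑ i ∈ s, f i) y = ∑ i ∈ s, h (f i) y := by
  classical
  induction s using Finset.induction_on with
  | empty => simp [hH.zero_left]
  | insert a s ha ih => rw [Finset.sum_insert ha, Finset.sum_insert ha, hH.add_left, ih]

lemma h_sum_right {ι : Type*} (s : Finset ι) (x : V) (f : ι → V) :
    h x (∑ i ∈ s, f i) = ∑ i ∈ s, h x (f i) := by
  classical
  induction s using Finset.induction_on with
  | empty => simp [hH.zero_right]
  | insert a s ha ih => rw [Finset.sum_insert ha, Finset.sum_insert ha, hH.add_right, ih]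

/-- the norm `h x x` is fixed by `σ` -/
lemma σ_norm (x : V) : σ (h x x) = h x x := (hH.conj x x).symm

/-- conjugating a unitary transvection by an isometry -/
lemma conj_utv {g : V ≃ₗ[K] V} (hg : g ∈ UG h) (a : V) (c : K) (ha : h a a = 0)
    (ha' : h (g a) (g a) = 0) : g * hH.utv a c ha * g⁻¹ = hH.utv (g a) c ha' := by
  ext x
  rw [LinearEquiv.mul_apply, LinearEquiv.mul_apply, hH.utv_apply, hH.utv_apply, map_add, map_smul]
  have h1 : g (g⁻¹ x) = x := by
    rw [← LinearEquiv.mul_apply, mul_inv_cancel]; rfl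
  rw [h1]
  have h2 : h (g⁻¹ x) a = h x (g a) := by
    rw [← hg (g⁻¹ x) a, h1]
  rw [h2]

lemma zero_mem_UXa (M : Subgroup (V ≃ₗ[K] V)) : (0 : V) ∈ UXa hH M := by
  refine ⟨hH.zero_left 0, fun c _ => ?_⟩
  have : hH.utv 0 c (hH.zero_left 0) = 1 := by
    ext x
    rw [hH.utv_apply]
    simp
  rw [this]
  exact M.one_mem

/-- `UXa` is stable under the isometries in `M` -/
lemma uxa_map {M : Subgroup (V ≃ₗ[K] V)} {g : V ≃ₗ[K] V} (hgM : g ∈ M) (hg : g ∈ UG h) {v : V}
    (hv : v ∈ UXa hH M) : g v ∈ UXa hH M := by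
  obtain ⟨hv0, hv1⟩ := hv
  have h0 : h (g v) (g v) = 0 := by rw [hg, hv0]
  refine ⟨h0, fun c hc => ?_⟩
  rw [← conj_utv hH hg v c hv0 h0]
  exact M.mul_mem (M.mul_mem hgM (hv1 c hc)) (M.inv_mem hgM)

end herm

section ctx

variable {t k : ℕ} {D : Fin t → Submodule K V}

/-- an automorphism mapping every member into itself stabilises the decomposition -/
lemma mem_stabDec_of_maps [FiniteDimensional K V] {g : V ≃ₗ[K] V}
    (hg : ∀ l, ∀ x ∈ D l, g x ∈ D l) : g ∈ stabDec D := by
  refine ⟨1, fun l => ?_⟩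
  rw [Equiv.Perm.one_apply]
  apply Submodule.eq_of_le_of_finrank_eq
  · rintro y ⟨x, hx, rfl⟩
    exact hg l x hx
  · exact LinearEquiv.finrank_map_eq _ _

/-- an automorphism mapping a member into a member of the same dimension maps it onto it -/
lemma map_eq_of_maps_into [FiniteDimensional K V] (hD : LDecomp k D) {g : V ≃ₗ[K] V} {a a' : Fin t}
    (hg : ∀ x ∈ D a, g x ∈ D a') : (D a).map (g : V →ₗ[K] V) = D a' := by
  apply Submodule.eq_of_le_of_finrank_eq
  · rintro y ⟨x, hx, rfl⟩
    exact hg x hx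
  · rw [LinearEquiv.finrank_map_eq, hD.finrank_eq, hD.finrank_eq]

namespace UCtx

variable (C : UCtx σ h k D)
include C

lemma σ_tz_mul {c a : K} (hc : c + σ c = 0) (ha : σ a = a) : c * a + σ (c * a) = 0 := by
  rw [map_mul, ha]
  linear_combination a * hc

/-- `UXa` is stable under scalars -/
lemma uxa_smul {M : Subgroup (V ≃ₗ[K] V)} {v : V} (hv : v ∈ UXa C.herm M) (l : K) :
    l • v ∈ UXa C.herm M := by
  obtain ⟨hv0, hv1⟩ := hv
  have h0 : h (l • v) (l • v) = 0 := by
    rw [C.herm.smul_left, C.herm.smul_right, hv0]; ring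
  refine ⟨h0, fun c hc => ?_⟩
  have hfix : σ (l * σ l) = l * σ l := by rw [map_mul, C.invol]; ring
  have h1 := hv1 (c * (l * σ l)) (C.σ_tz_mul hc hfix)
  have h2 : C.herm.utv (l • v) c h0 = C.herm.utv v (c * (l * σ l)) hv0 := by
    ext x
    rw [C.herm.utv_apply, C.herm.utv_apply, C.herm.smul_right, smul_smul]
    congr 2
    ring
  rw [h2]
  exact h1

/-- moving `x ∈ UXa` by a transvection centred at `y ∈ UXa` -/
lemma uxa_tv {M : Subgroup (V ≃ₗ[K] V)} (hMU : M ≤ UG h) {x y : V} (hx : x ∈ UXa C.herm M)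
    (hy : y ∈ UXa C.herm M) (c : K) (hc : c + σ c = 0) :
    x + (c * h x y) • y ∈ UXa C.herm M := by
  obtain ⟨hy0, hy1⟩ := hy
  have := uxa_map C.herm (hy1 c hc) (hMU (hy1 c hc)) hx
  rwa [C.herm.utv_apply] at this

/-- **hyperbolic lines**: if `x, y ∈ UXa` are not orthogonal, every isotropic vector of the plane
`⟨x, y⟩` lies in `UXa` -/
lemma uxa_plane {M : Subgroup (V ≃ₗ[K] V)} (hMU : M ≤ UG h) {x y : V} (hx : x ∈ UXa C.herm M)
    (hy : y ∈ UXa C.herm M) (hxy : h x y ≠ 0) (a b : K)
    (hz : h (a • x + b • y) (a • x + b • y) = 0) : a • x + b • y ∈ UXa C.herm M := by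
  obtain ⟨hx0, -⟩ := id hx
  obtain ⟨hy0, -⟩ := id hy
  have hyx : h y x = σ (h x y) := C.herm.conj x y
  have hyx0 : h y x ≠ 0 := by
    rw [hyx]
    intro h0
    apply hxy
    have := congrArg σ h0
    rwa [C.invol, map_zero] at this
  -- the norm of `a x + b y`
  have hN : a * σ b * h x y + b * σ a * h y x = 0 := by
    simp only [C.herm.add_left, C.herm.add_right, C.herm.smul_left, C.herm.smul_right, hx0,
      hy0] at hz
    linear_combination hz
  by_cases hb : b = 0
  · subst hb
    rw [zero_smul, add_zero]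
    exact C.uxa_smul hx a
  · -- `a x + b y = b (y + (c * h y x) x)` with `c = a / (b * h y x)`
    set c : K := a / (b * h y x) with hc
    have hσb : σ b ≠ 0 := by
      intro h0
      apply hb
      have := congrArg σ h0
      rwa [C.invol, map_zero] at this
    have hctz : c + σ c = 0 := by
      rw [hc, map_div₀, map_mul, hyx, C.invol]
      rw [hyx] at hN hyx0
      field_simp
      linear_combination hN
    have h1 := C.uxa_tv hMU hy hx c hctz
    have h2 := C.uxa_smul h1 b
    have h3 : b • (y + (c * h y x) • x) = a • x + b • y := by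
      rw [smul_add, smul_smul, add_comm]
      congr 2
      rw [hc]
      field_simp
    rwa [h3] at h2

/-- the difference of two non-orthogonal members of `UXa`, if isotropic, lies in `UXa` -/
lemma uxa_sub {M : Subgroup (V ≃ₗ[K] V)} (hMU : M ≤ UG h) {x y : V} (hx : x ∈ UXa C.herm M)
    (hy : y ∈ UXa C.herm M) (hxy : h x y ≠ 0) (hz : h (y - x) (y - x) = 0) :
    y - x ∈ UXa C.herm M := by
  have e : y - x = (-1 : K) • x + (1 : K) • y := by module
  rw [e] at hz ⊢
  exact C.uxa_plane hMU hx hy hxy _ _ hz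

/-- the sum of two non-orthogonal members of `UXa`, if isotropic, lies in `UXa` -/
lemma uxa_add {M : Subgroup (V ≃ₗ[K] V)} (hMU : M ≤ UG h) {x y : V} (hx : x ∈ UXa C.herm M)
    (hy : y ∈ UXa C.herm M) (hxy : h x y ≠ 0) (hz : h (x + y) (x + y) = 0) :
    x + y ∈ UXa C.herm M := by
  have e : x + y = (1 : K) • x + (1 : K) • y := by module
  rw [e] at hz ⊢
  exact C.uxa_plane hMU hx hy hxy _ _ hz

/-- orthogonality of the components -/
lemma h_pr_pr {i j : Fin t} (hij : i ≠ j) (x y : V) : h (C.ld.pr i x) (C.ld.pr j y) = 0 :=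
  C.orth i j hij _ (C.ld.pr_mem i x) _ (C.ld.pr_mem j y)

/-- pairing with a vector of a member only sees the corresponding component -/
lemma h_right_of_mem {i : Fin t} {y : V} (hy : y ∈ D i) (x : V) : h x y = h (C.ld.pr i x) y := by
  conv_lhs => rw [← C.ld.sum_pr x]
  rw [h_sum_left C.herm, Finset.sum_eq_single i]
  · intro j _ hji
    exact C.orth j i hji _ (C.ld.pr_mem j x) _ hy
  · intro hi
    exact absurd (Finset.mem_univ i) hi

lemma h_left_of_mem {i : Fin t} {x : V} (hx : x ∈ D i) (y : V) : h x y = h x (C.ld.pr i y) := by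
  rw [C.herm.conj y x, C.h_right_of_mem hx y, ← C.herm.conj]

/-- the form is the sum of the forms of the components -/
lemma h_eq_sum (x y : V) : h x y = ∑ i, h (C.ld.pr i x) (C.ld.pr i y) := by
  conv_lhs => rw [← C.ld.sum_pr y]
  rw [h_sum_right C.herm]
  apply Finset.sum_congr rfl
  intro i _
  exact C.h_right_of_mem (C.ld.pr_mem i y) x

/-- the whole form is non-degenerate -/
lemma nondeg {x : V} (hx : ∀ y, h x y = 0) : x = 0 := by
  apply C.ld.eq_zero_of_pr
  intro i
  apply C.nd i _ (C.ld.pr_mem i x)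
  intro v hv
  rw [← C.h_right_of_mem hv x]
  exact hx v

end UCtx

end ctx

end Cfsg.Agent.Lib.Helper94.UDec
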