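/-
Helper94, project S5655 part 2, module [EX0]: non-isotropic vectors and orthogonal complements inside
a non-degenerate subspace of a hermitian space.
-/
import Mathlib
import Cfsg.Agent.Lib.Helper94.UDec.Core

set_option autoImplicit false
set_option linter.unusedSectionVars false
set_option linter.unusedVariables false
set_option linter.unusedSimpArgs false

namespace Cfsg.Agent.Lib.Helper94.UDec

open Cfsg.Agent.Lib.Helper94 Cfsg.Agent.Lib.Helper94.SympData Module

variable {K V : Type*} [Field K] [AddCommGroup V] [Module K V]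
variable {σ : K →+* K} {h : V → V → K}

namespace FCtx

variable (F : FCtx σ h)
include F

/-- some element is moved by `σ` -/
lemma exists_not_fixed : ∃ l : K, σ l ≠ l := by
  obtain ⟨c, hc0, hc⟩ := F.tz
  by_cases h2 : σ c = c
  · -- then `2 c = 0`, so `2 = 0`
    have h2c : c + c = 0 := by rw [h2] at hc; exact hc
    have h20 : (2 : K) = 0 := by
      have : (2 : K) * c = 0 := by linear_combination h2c
      rcases mul_eq_zero.1 this with h | h
      · exact h
      · exact absurd h hc0
    obtain ⟨l, hl⟩ := F.tr_surj 1 (map_one σ)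
    refine ⟨l, fun hfix => ?_⟩
    rw [hfix] at hl
    have : (1 : K) = 0 := by linear_combination -hl + l * h20
    exact one_ne_zero this
  · exact ⟨c, h2⟩

lemma σ_ne_zero {a : K} (ha : a ≠ 0) : σ a ≠ 0 := by
  intro h0
  apply ha
  have := congrArg σ h0
  rwa [F.invol, map_zero] at this

lemma h_ne_zero_symm {x y : V} (hxy : h x y ≠ 0) : h y x ≠ 0 := by
  rw [F.herm.conj x y]
  exact F.σ_ne_zero hxy

end FCtx

/-- cutting with the kernel of a functional lowers the dimension by at most one -/
lemma finrank_le_inf_ker_add_one [FiniteDimensional K V] (P : Submodule K V) (φ : V →ₗ[K] K) :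
    finrank K P ≤ finrank K (P ⊓ LinearMap.ker φ : Submodule K V) + 1 := by
  have h1 := Submodule.finrank_sup_add_finrank_inf_eq P (LinearMap.ker φ)
  have h2 := LinearMap.finrank_range_add_finrank_ker φ
  have h3 : finrank K (LinearMap.range φ) ≤ 1 := by
    have := Submodule.finrank_le (LinearMap.range φ)
    rwa [Module.finrank_self] at this
  have h4 := Submodule.finrank_le (P ⊔ LinearMap.ker φ)
  omega

section EX
variable [FiniteDimensional K V] (F : FCtx σ h) {W : Submodule K V} (hW : NdOn h W)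
include F hW

/-- [EX0] a non-zero non-degenerate subspace contains a non-isotropic vector -/
theorem ex_aniso (hk : 1 ≤ finrank K W) : ∃ d ∈ W, h d d ≠ 0 := by
  by_contra hno
  push Not at hno
  obtain ⟨x, hx⟩ := Module.finrank_pos_iff_exists_ne_zero.1 (show 0 < finrank K W by omega)
  have hx0 : (x : V) ≠ 0 := fun h0 => hx (Subtype.ext h0)
  obtain ⟨y, hy, hxy⟩ : ∃ y ∈ W, h (x : V) y ≠ 0 := by
    by_contra hno'
    push Not at hno'
    exact hx0 (hW x x.2 hno')
  obtain ⟨l, hl⟩ := F.exists_not_fixed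
  have h1 := hno ((x : V) + y) (W.add_mem x.2 hy)
  have h2 := hno ((x : V) + l • y) (W.add_mem x.2 (W.smul_mem l hy))
  have hxx := hno x x.2
  have hyy := hno y hy
  simp only [F.herm.add_left, F.herm.add_right, F.herm.smul_left, F.herm.smul_right, hxx, hyy]
    at h1 h2
  have h3 : (σ l - l) * h (x : V) y = 0 := by linear_combination h2 - l * h1
  rcases mul_eq_zero.1 h3 with h | h
  · exact hl (sub_eq_zero.1 h)
  · exact hxy h

/-- [EX0] the orthogonal complement in `W` of a non-isotropic vector of `W` -/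
theorem ex_perp_aniso {x : V} (hx : x ∈ W) (hxx : h x x ≠ 0) :
    ∃ W' : Submodule K V, W' ≤ W ∧ NdOn h W' ∧ (∀ y ∈ W', h y x = 0) ∧
      finrank K W ≤ finrank K W' + 1 ∧ ∀ w ∈ W, ∃ a : K, ∃ w' ∈ W', w = a • x + w' := by
  have hdec : ∀ w ∈ W, ∃ a : K, ∃ w' ∈ W ⊓ LinearMap.ker (F.herm.hfun x), w = a • x + w' := by
    intro w hw
    refine ⟨h w x / h x x, w - (h w x / h x x) • x, ⟨W.sub_mem hw (W.smul_mem _ hx), ?_⟩, by abel⟩
    change h (w - (h w x / h x x) • x) x = 0
    rw [h_sub_left F.herm, F.herm.smul_left]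
    field_simp
    ring
  refine ⟨W ⊓ LinearMap.ker (F.herm.hfun x), inf_le_left, ?_, ?_, ?_, hdec⟩
  · intro u hu huv
    apply hW u hu.1
    intro w hw
    obtain ⟨a, w', hw', rfl⟩ := hdec w hw
    have hux : h u x = 0 := hu.2
    rw [F.herm.add_right, F.herm.smul_right, hux, mul_zero, zero_add]
    exact huv w' hw'
  · intro y hy
    exact hy.2
  · exact finrank_le_inf_ker_add_one W _

/-- [EX0] the orthogonal complement in `W` of a hyperbolic pair of `W` -/
theorem ex_perp_hyp {e f : V} (he : e ∈ W) (hf : f ∈ W) (hee : h e e = 0) (hff : h f f = 0)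
    (hef : h e f = 1) :
    ∃ W' : Submodule K V, W' ≤ W ∧ NdOn h W' ∧ (∀ y ∈ W', h y e = 0 ∧ h y f = 0) ∧
      finrank K W ≤ finrank K W' + 2 ∧
      ∀ w ∈ W, ∃ a b : K, ∃ w' ∈ W', w = a • e + b • f + w' := by
  have hfe : h f e = 1 := by rw [F.herm.conj e f, hef, map_one]
  have hdec : ∀ w ∈ W, ∃ a b : K,
      ∃ w' ∈ (W ⊓ LinearMap.ker (F.herm.hfun e)) ⊓ LinearMap.ker (F.herm.hfun f),
        w = a • e + b • f + w' := by
    intro w hw
    refine ⟨h w f, h w e, w - (h w f • e + h w e • f),
      ⟨⟨W.sub_mem hw (W.add_mem (W.smul_mem _ he) (W.smul_mem _ hf)), ?_⟩, ?_⟩, by abel⟩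
    · change h (w - (h w f • e + h w e • f)) e = 0
      rw [h_sub_left F.herm, F.herm.add_left, F.herm.smul_left, F.herm.smul_left, hee, hfe]
      ring
    · change h (w - (h w f • e + h w e • f)) f = 0
      rw [h_sub_left F.herm, F.herm.add_left, F.herm.smul_left, F.herm.smul_left, hff, hef]
      ring
  refine ⟨(W ⊓ LinearMap.ker (F.herm.hfun e)) ⊓ LinearMap.ker (F.herm.hfun f),
    inf_le_left.trans inf_le_left, ?_, ?_, ?_, hdec⟩
  · intro u hu huv
    apply hW u hu.1.1
    intro w hw
    obtain ⟨a, b, w', hw', rfl⟩ := hdec w hw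
    have hue : h u e = 0 := hu.1.2
    have huf : h u f = 0 := hu.2
    rw [F.herm.add_right, F.herm.add_right, F.herm.smul_right, F.herm.smul_right, hue, huf,
      mul_zero, mul_zero, zero_add, zero_add]
    exact huv w' hw'
  · intro y hy
    exact ⟨hy.1.2, hy.2⟩
  · have h1 := finrank_le_inf_ker_add_one W (F.herm.hfun e)
    have h2 := finrank_le_inf_ker_add_one (W ⊓ LinearMap.ker (F.herm.hfun e)) (F.herm.hfun f)
    omega

end EX

end Cfsg.Agent.Lib.Helper94.UDec
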