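/-
Helper94, project S5655 part 2, module [B1]: the isotropic vectors of the members of the decomposition
are centres of transvections of `H`, hence lie in `UXa`.
-/
import Mathlib
import Cfsg.Agent.Lib.Helper94.UDec.Core

set_option autoImplicit false
set_option linter.unusedSectionVars false
set_option linter.unusedVariables false

namespace Cfsg.Agent.Lib.Helper94.UDec

open Cfsg.Agent.Lib.Helper94 Cfsg.Agent.Lib.Helper94.SympData Module

variable {K V : Type*} [Field K] [AddCommGroup V] [Module K V] [FiniteDimensional K V]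
variable {σ : K →+* K} {h : V → V → K}
variable {t k : ℕ} {D : Fin t → Submodule K V}

/-- a transvection centred in a member lies in `H` -/
theorem utv_mem_HG (C : UCtx σ h k D) {i : Fin t} {v : V} (hv : v ∈ D i) (hvv : h v v = 0) (c : K)
    (hc : c + σ c = 0) : C.herm.utv v c hvv ∈ HG h D := by
  refine ⟨?_, C.herm.utv_mem_UG v c hvv hc, C.herm.utv_mem_SLe v c hvv⟩
  apply mem_stabDec_of_maps
  intro l x hx
  rw [C.herm.utv_apply]
  by_cases hl : l = i
  · subst hl
    exact (D l).add_mem hx ((D l).smul_mem _ hv)
  · rw [C.orth l i hl x hx v hv, mul_zero, zero_smul, add_zero]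
    exact hx

/-- [B1] isotropic vectors of the members lie in `UXa` -/
theorem block_mem (C : UCtx σ h k D) {M : Subgroup (V ≃ₗ[K] V)} (hHM : HG h D ≤ M) {i : Fin t}
    {v : V} (hv : v ∈ D i) (hvv : h v v = 0) : v ∈ UXa C.herm M :=
  ⟨hvv, fun c hc => hHM (utv_mem_HG C hv hvv c hc)⟩

end Cfsg.Agent.Lib.Helper94.UDec
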