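/-
Helper94, project S5655 part 2, module [EX14]: isotropic vectors, hyperbolic partners and
connectedness of the non-orthogonality graph in a non-degenerate subspace of dimension at least two.
-/
import Mathlib
import Cfsg.Agent.Lib.Helper94.UDec.Ex0

set_option autoImplicit false
set_option linter.unusedSectionVars false
set_option linter.unusedVariables false
set_option linter.unusedSimpArgs false

namespace Cfsg.Agent.Lib.Helper94.UDec

open Cfsg.Agent.Lib.Helper94 Cfsg.Agent.Lib.Helper94.SympData Module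

variable {K V : Type*} [Field K] [AddCommGroup V] [Module K V] [FiniteDimensional K V]
variable {σ : K →+* K} {h : V → V → K}

section EX
variable (F : FCtx σ h) {W : Submodule K V} (hW : NdOn h W)
include F hW

/-- a non-isotropic vector `x` of `W` (`dim W ≥ 2`) has an isotropic `x + w` with `w ∈ W` orthogonal
to `x` -/
theorem ex_iso_add (hk : 2 ≤ finrank K W) {x : V} (hx : x ∈ W) (hxx : h x x ≠ 0) :
    ∃ w ∈ W, h w x = 0 ∧ h x w = 0 ∧ h w w = -h x x ∧ h (x + w) (x + w) = 0 := by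
  obtain ⟨W', hW'W, hW'nd, hW'x, hfr, -⟩ := ex_perp_aniso F hW hx hxx
  obtain ⟨w, hw, hww⟩ := ex_aniso F hW'nd (by omega)
  have hfix : σ (-h x x / h w w) = -h x x / h w w := by
    rw [map_div₀, map_neg, σ_norm F.herm, σ_norm F.herm]
  obtain ⟨s, hs⟩ := F.nm_surj _ hfix
  have hwx : h w x = 0 := hW'x w hw
  have hxw : h x w = 0 := by rw [F.herm.conj w x, hwx, map_zero]
  have hN : h (s • w) (s • w) = -h x x := by
    rw [F.herm.smul_left, F.herm.smul_right]
    have : s * (σ s * h w w) = (s * σ s) * h w w := by ring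
    rw [this, hs]
    field_simp
  refine ⟨s • w, W.smul_mem s (hW'W hw), ?_, ?_, hN, ?_⟩
  · rw [F.herm.smul_left, hwx, mul_zero]
  · rw [F.herm.smul_right, hxw, mul_zero]
  · rw [F.herm.add_left, F.herm.add_right, F.herm.add_right, hN, F.herm.smul_left,
      F.herm.smul_right, hwx, hxw]
    ring

/-- [EX1] -/
theorem ex_iso (hk : 2 ≤ finrank K W) : ∃ e ∈ W, e ≠ 0 ∧ h e e = 0 := by
  obtain ⟨x, hx, hxx⟩ := ex_aniso F hW (by omega)
  obtain ⟨w, hw, hwx, hxw, -, hN⟩ := ex_iso_add F hW hk hx hxx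
  refine ⟨x + w, W.add_mem hx hw, ?_, hN⟩
  intro h0
  have : h (x + w) x = 0 := by rw [h0]; exact F.herm.zero_left x
  rw [F.herm.add_left, hwx, add_zero] at this
  exact hxx this

/-- [EX2] hyperbolic partner -/
theorem ex_partner {e : V} (he : e ∈ W) (he0 : e ≠ 0) (hee : h e e = 0) :
    ∃ f ∈ W, h f f = 0 ∧ h e f = 1 := by
  obtain ⟨y, hy, hey⟩ : ∃ y ∈ W, h e y ≠ 0 := by
    by_contra hno
    push Not at hno
    exact he0 (hW e he hno)
  obtain ⟨y', hy'⟩ : ∃ y' : V, y' = (σ (h e y)⁻¹) • y := ⟨_, rfl⟩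
  have hy'W : y' ∈ W := by rw [hy']; exact W.smul_mem _ hy
  have hey' : h e y' = 1 := by
    rw [hy', F.herm.smul_right, F.invol]
    field_simp
  have hy'e : h y' e = 1 := by rw [F.herm.conj e y', hey', map_one]
  obtain ⟨b, hb⟩ := F.tr_surj (-h y' y') (by rw [map_neg, σ_norm F.herm])
  refine ⟨y' + b • e, W.add_mem hy'W (W.smul_mem _ he), ?_, ?_⟩
  · rw [F.herm.add_left, F.herm.add_right, F.herm.add_right, F.herm.smul_left, F.herm.smul_left,
      F.herm.smul_right, F.herm.smul_right, hee, hey', hy'e]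
    linear_combination hb
  · rw [F.herm.add_right, F.herm.smul_right, hee, hey']
    ring

/-- [EX3] an isotropic vector of `W` not orthogonal to a given non-zero vector of `W` -/
theorem ex_iso_pair (hk : 2 ≤ finrank K W) {x : V} (hx : x ∈ W) (hx0 : x ≠ 0) :
    ∃ y ∈ W, h y y = 0 ∧ h x y ≠ 0 := by
  by_cases hxx : h x x = 0
  · obtain ⟨f, hf, hff, hxf⟩ := ex_partner F hW hx hx0 hxx
    exact ⟨f, hf, hff, by rw [hxf]; exact one_ne_zero⟩
  · obtain ⟨w, hw, hwx, hxw, -, hN⟩ := ex_iso_add F hW hk hx hxx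
    refine ⟨x + w, W.add_mem hx hw, hN, ?_⟩
    rw [F.herm.add_right, hxw, add_zero]
    exact hxx

/-- [EX4] two non-zero isotropic vectors of `W` have a common isotropic non-neighbour -/
theorem ex_conn {e e' : V} (he : e ∈ W) (he' : e' ∈ W) (he0 : e ≠ 0) (he'0 : e' ≠ 0)
    (hee : h e e = 0) (he'e' : h e' e' = 0) :
    ∃ w ∈ W, h w w = 0 ∧ h e w ≠ 0 ∧ h e' w ≠ 0 := by
  obtain ⟨f, hf, hff, hef⟩ := ex_partner F hW he he0 hee
  obtain ⟨f', hf', hf'f', he'f'⟩ := ex_partner F hW he' he'0 he'e'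
  by_cases h1 : h e' f = 0
  swap
  · exact ⟨f, hf, hff, by rw [hef]; exact one_ne_zero, h1⟩
  by_cases h2 : h e f' = 0
  swap
  · exact ⟨f', hf', hf'f', h2, by rw [he'f']; exact one_ne_zero⟩
  -- `w = f + s f'`
  obtain ⟨s, hs0, hs⟩ : ∃ s : K, s ≠ 0 ∧ σ s * h f f' + s * h f' f = 0 := by
    by_cases hm : h f f' = 0
    · refine ⟨1, one_ne_zero, ?_⟩
      rw [F.herm.conj f f', hm, map_zero]
      ring
    · obtain ⟨c, hc0, hc⟩ := F.tz
      have hσm : σ (h f f') ≠ 0 := F.σ_ne_zero hm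
      refine ⟨-c / σ (h f f'), div_ne_zero (neg_ne_zero.2 hc0) hσm, ?_⟩
      rw [F.herm.conj f f', map_div₀, map_neg, F.invol]
      have hσc : σ c = -c := by linear_combination hc
      rw [hσc]
      field_simp
      ring
  refine ⟨f + s • f', W.add_mem hf (W.smul_mem _ hf'), ?_, ?_, ?_⟩
  · rw [F.herm.add_left, F.herm.add_right, F.herm.add_right, F.herm.smul_left, F.herm.smul_left,
      F.herm.smul_right, F.herm.smul_right, hff, hf'f']
    linear_combination hs
  · rw [F.herm.add_right, F.herm.smul_right, hef, h2]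
    simp
  · rw [F.herm.add_right, F.herm.smul_right, h1, he'f']
    simp only [zero_add, mul_one]
    exact F.σ_ne_zero hs0

end EX

end Cfsg.Agent.Lib.Helper94.UDec
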