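/-
Helper94, project S5655 part 2: the predicate `HasPair` (conclusion of the modules [C1A], [C1B],
hypothesis of [C2I]).
-/
import Mathlib
import Cfsg.Agent.Lib.Helper94.UDec.Core

set_option autoImplicit false
set_option linter.unusedSectionVars false
set_option linter.unusedVariables false

namespace Cfsg.Agent.Lib.Helper94.UDec

open Cfsg.Agent.Lib.Helper94 Cfsg.Agent.Lib.Helper94.SympData Module

variable {K V : Type*} [Field K] [AddCommGroup V] [Module K V]
variable {σ : K →+* K} {h : V → V → K}
variable {t k : ℕ} {D : Fin t → Submodule K V}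

/-- a vector of `UXa` with exactly two non-zero components, both isotropic, in the members `a`, `b` -/
def HasPair (C : UCtx σ h k D) (M : Subgroup (V ≃ₗ[K] V)) (a b : Fin t) : Prop :=
  ∃ ya ∈ D a, ∃ yb ∈ D b, ya ≠ 0 ∧ yb ≠ 0 ∧ h ya ya = 0 ∧ h yb yb = 0 ∧ ya + yb ∈ UXa C.herm M

end Cfsg.Agent.Lib.Helper94.UDec
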