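/-
Helper94, project S5655 part 2, module [C1A]: if the fixed field of `σ` has at least three elements,
a vector of `UXa` with two non-zero components yields a vector of `UXa` which is the sum of two non-zero
isotropic vectors of the two members (two block transvections and a hyperbolic line).
-/
import Mathlib
import Cfsg.Agent.Lib.Helper94.UDec.Ex14
import Cfsg.Agent.Lib.Helper94.UDec.B1
import Cfsg.Agent.Lib.Helper94.UDec.HasPair

set_option autoImplicit false
set_option linter.unusedSectionVars false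
set_option linter.unusedVariables false
set_option linter.unusedSimpArgs false

namespace Cfsg.Agent.Lib.Helper94.UDec

open Cfsg.Agent.Lib.Helper94 Cfsg.Agent.Lib.Helper94.SympData Module

variable {K V : Type*} [Field K] [AddCommGroup V] [Module K V] [FiniteDimensional K V]
variable {σ : K →+* K} {h : V → V → K}
variable {t k : ℕ} {D : Fin t → Submodule K V}

/-- an isotropic vector of the member `a` not orthogonal to `x`, when the `a`-component of `x` is
non-zero -/
theorem ex_iso_of_pr (C : UCtx σ h k D) {x : V} {a : Fin t} (hxa : C.ld.pr a x ≠ 0) :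
    ∃ y ∈ D a, y ≠ 0 ∧ h y y = 0 ∧ h x y ≠ 0 := by
  have hfr : 2 ≤ finrank K (D a) := by rw [C.ld.finrank_eq a]; exact C.two_le
  obtain ⟨y, hy, hyy, hxy⟩ := ex_iso_pair C.toFCtx (C.nd a) hfr (C.ld.pr_mem a x) hxa
  refine ⟨y, hy, ?_, hyy, ?_⟩
  · rintro rfl
    exact hxy (C.herm.zero_right _)
  · rw [C.h_right_of_mem hy x]
    exact hxy

/-- [C1A] the fixed field has at least three elements -/
theorem pair_of_mixed_q (C : UCtx σ h k D) {M : Subgroup (V ≃ₗ[K] V)} (hMU : M ≤ UG h)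
    (hHM : HG h D ≤ M) (hq : ∀ μ : K, ∃ l : K, σ l = l ∧ l ≠ 0 ∧ l ≠ μ)
    {x : V} (hx : x ∈ UXa C.herm M) {a b : Fin t} (hab : a ≠ b) (hxa : C.ld.pr a x ≠ 0)
    (hxb : C.ld.pr b x ≠ 0) : HasPair C M a b := by
  obtain ⟨ya, hya, hya0, hyaa, hα⟩ := ex_iso_of_pr C hxa
  obtain ⟨yb, hyb, hyb0, hybb, hβ⟩ := ex_iso_of_pr C hxb
  obtain ⟨hxx, -⟩ := id hx
  obtain ⟨c₀, hc₀0, hc₀⟩ := C.tz
  obtain ⟨α, hαdef⟩ : ∃ α : K, α = h x ya := ⟨_, rfl⟩
  obtain ⟨β, hβdef⟩ : ∃ β : K, β = h x yb := ⟨_, rfl⟩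
  rw [← hαdef] at hα
  rw [← hβdef] at hβ
  have hσα : σ α ≠ 0 := C.toFCtx.σ_ne_zero hα
  have hσβ : σ β ≠ 0 := C.toFCtx.σ_ne_zero hβ
  obtain ⟨l, hlfix, hl0, hl⟩ := hq (-(α * σ α) / (β * σ β))
  have hsum : α * σ α + l * (β * σ β) ≠ 0 := by
    intro h0
    apply hl
    field_simp
    linear_combination h0
  have hc₂ : l * c₀ + σ (l * c₀) = 0 := by
    rw [map_mul, hlfix]
    linear_combination l * hc₀
  have hyab : h ya yb = 0 := C.orth a b hab ya hya yb hyb
  have hyba : h yb ya = 0 := C.orth b a (Ne.symm hab) yb hyb ya hya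
  have hYa := block_mem C hHM hya hyaa
  have hYb := block_mem C hHM hyb hybb
  have hx₁ := C.uxa_tv hMU hx hYa c₀ hc₀
  rw [← hαdef] at hx₁
  have hx' := C.uxa_tv hMU hx₁ hYb (l * c₀) hc₂
  have e1 : h (x + (c₀ * α) • ya) yb = β := by
    rw [C.herm.add_left, C.herm.smul_left, hyab, mul_zero, add_zero, hβdef]
  rw [e1] at hx'
  have hσc₀ : σ c₀ = -c₀ := by linear_combination hc₀
  -- the product of `x` and `x'`
  have hprod : h x (x + (c₀ * α) • ya + (l * c₀ * β) • yb) ≠ 0 := by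
    rw [C.herm.add_right, C.herm.add_right, C.herm.smul_right, C.herm.smul_right, hxx, ← hαdef,
      ← hβdef, map_mul, map_mul, map_mul, hlfix, hσc₀]
    intro h0
    apply hsum
    have : (-c₀) * (α * σ α + l * (β * σ β)) = 0 := by linear_combination h0
    rcases mul_eq_zero.1 this with h1 | h1
    · exact absurd (neg_eq_zero.1 h1) hc₀0
    · exact h1
  have hdiff : x + (c₀ * α) • ya + (l * c₀ * β) • yb - x = (c₀ * α) • ya + (l * c₀ * β) • yb := by
    abel
  have hN : h ((c₀ * α) • ya + (l * c₀ * β) • yb) ((c₀ * α) • ya + (l * c₀ * β) • yb) = 0 := by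
    simp only [C.herm.add_left, C.herm.add_right, C.herm.smul_left, C.herm.smul_right, hyaa, hybb,
      hyab, hyba]
    ring
  have hmem := C.uxa_sub hMU hx hx' hprod (by rw [hdiff]; exact hN)
  rw [hdiff] at hmem
  have hca : c₀ * α ≠ 0 := mul_ne_zero hc₀0 hα
  have hcb : l * c₀ * β ≠ 0 := mul_ne_zero (mul_ne_zero hl0 hc₀0) hβ
  refine ⟨(c₀ * α) • ya, (D a).smul_mem _ hya, (l * c₀ * β) • yb, (D b).smul_mem _ hyb,
    smul_ne_zero hca hya0, smul_ne_zero hcb hyb0, ?_, ?_, hmem⟩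
  · rw [C.herm.smul_left, C.herm.smul_right, hyaa]; ring
  · rw [C.herm.smul_left, C.herm.smul_right, hybb]; ring

end Cfsg.Agent.Lib.Helper94.UDec
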