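/-
Helper94, project S5655 part 2, module [B2]: if every centre in `UXa` lies in a member of the
decomposition, then `M` stabilises the decomposition.
-/
import Mathlib
import Cfsg.Agent.Lib.Helper94.UDec.Ex14
import Cfsg.Agent.Lib.Helper94.UDec.B1

set_option autoImplicit false
set_option linter.unusedSectionVars false
set_option linter.unusedVariables false
set_option linter.unusedSimpArgs false

namespace Cfsg.Agent.Lib.Helper94.UDec

open Cfsg.Agent.Lib.Helper94 Cfsg.Agent.Lib.Helper94.SympData Module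

variable {K V : Type*} [Field K] [AddCommGroup V] [Module K V] [FiniteDimensional K V]
variable {σ : K →+* K} {h : V → V → K}

/-- every vector of a non-degenerate subspace of dimension at least two is a combination of two
isotropic vectors of the subspace -/
theorem ex_two_iso (F : FCtx σ h) {W : Submodule K V} (hW : NdOn h W) (hk : 2 ≤ finrank K W)
    {x : V} (hx : x ∈ W) :
    ∃ e₁ ∈ W, ∃ e₂ ∈ W, h e₁ e₁ = 0 ∧ h e₂ e₂ = 0 ∧ ∃ a b : K, x = a • e₁ + b • e₂ := by
  by_cases hxx : h x x = 0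
  · exact ⟨x, hx, 0, W.zero_mem, hxx, F.herm.zero_left 0, 1, 0, by simp⟩
  · obtain ⟨w, hw, hwx, hxw, hww, hN⟩ := ex_iso_add F hW hk hx hxx
    obtain ⟨μ, hμ⟩ := F.exists_not_fixed
    have hμ0 : μ ≠ 0 := by
      rintro rfl
      exact hμ (map_zero σ)
    have hσμ0 : σ μ ≠ 0 := F.σ_ne_zero hμ0
    obtain ⟨l, hl⟩ : ∃ l : K, l = σ μ / μ := ⟨_, rfl⟩
    have hl1 : l ≠ 1 := by
      rw [hl]
      intro h1
      apply hμ
      field_simp at h1
      exact h1
    have hlN : l * σ l = 1 := by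
      rw [hl, map_div₀, F.invol]
      field_simp
    have h1l : (1 : K) - l ≠ 0 := fun h0 => hl1 (by linear_combination -h0)
    refine ⟨x + w, W.add_mem hx hw, x + l • w, W.add_mem hx (W.smul_mem _ hw), hN, ?_,
      1 - (1 - l)⁻¹, (1 - l)⁻¹, ?_⟩
    · rw [F.herm.add_left, F.herm.add_right, F.herm.add_right, F.herm.smul_left, F.herm.smul_left,
        F.herm.smul_right, F.herm.smul_right, hwx, hxw, hww]
      linear_combination (-h x x) * hlN
    · have : x = (1 - (1 - l)⁻¹ + (1 - l)⁻¹) • x + ((1 - (1 - l)⁻¹) + (1 - l)⁻¹ * l) • w := by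
        have e1 : (1 - (1 - l)⁻¹ + (1 - l)⁻¹ : K) = 1 := by ring
        have e2 : ((1 - (1 - l)⁻¹) + (1 - l)⁻¹ * l : K) = 0 := by
          field_simp
          ring
        rw [e1, e2]
        simp
      conv_lhs => rw [this]
      module

variable {t k : ℕ} {D : Fin t → Submodule K V}

/-- [B2] if every vector of `UXa` lies in a member, then `M` stabilises the decomposition -/
theorem le_stabDec (C : UCtx σ h k D) {M : Subgroup (V ≃ₗ[K] V)} (hMU : M ≤ UG h)
    (hHM : HG h D ≤ M) (hX : ∀ x ∈ UXa C.herm M, ∃ i, x ∈ D i) : M ≤ stabDec D := by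
  intro g hg
  have hgU : g ∈ UG h := hMU hg
  have hfr : ∀ i, 2 ≤ finrank K (D i) := fun i => by rw [C.ld.finrank_eq i]; exact C.two_le
  -- two distinct members meet trivially
  have hinter : ∀ {i j : Fin t}, i ≠ j → ∀ {x : V}, x ∈ D i → x ∈ D j → x = 0 := by
    intro i j hij x hi hj
    exact C.nd i x hi fun y hy => C.orth j i (Ne.symm hij) x hj y hy
  -- images of isotropic vectors of a member
  have himg : ∀ i, ∀ e ∈ D i, h e e = 0 → ∃ j, g e ∈ D j := fun i e he hee =>
    hX _ (uxa_map C.herm hg hgU (block_mem C hHM he hee))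
  -- non-orthogonal isotropic vectors go to the same member
  have hsame : ∀ i, ∀ u ∈ D i, ∀ v ∈ D i, h u u = 0 → h v v = 0 → h u v ≠ 0 → ∀ j, g u ∈ D j →
      g v ∈ D j := by
    intro i u hu v hv huu hvv huv j hgu
    obtain ⟨j', hj'⟩ := himg i v hv hvv
    by_cases hjj : j = j'
    · rw [hjj]; exact hj'
    · exfalso
      apply huv
      rw [← hgU u v]
      exact C.orth j j' hjj _ hgu _ hj'
  have key : ∀ i, ∃ l, (D i).map (g : V →ₗ[K] V) = D l := by
    intro i
    obtain ⟨e₀, he₀, he₀0, he₀e₀⟩ := ex_iso C.toFCtx (C.nd i) (hfr i)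
    obtain ⟨j, hj⟩ := himg i e₀ he₀ he₀e₀
    refine ⟨j, map_eq_of_maps_into C.ld ?_⟩
    -- all isotropic vectors of `D i` go to `D j`
    have hiso : ∀ e ∈ D i, h e e = 0 → g e ∈ D j := by
      intro e he hee
      by_cases he0 : e = 0
      · rw [he0, map_zero]; exact (D j).zero_mem
      · obtain ⟨w, hw, hww, h1, h2⟩ := ex_conn C.toFCtx (C.nd i) he₀ he he₀0 he0 he₀e₀ hee
        have hgw := hsame i e₀ he₀ w hw he₀e₀ hww h1 j hj
        exact hsame i w hw e he hww hee (C.toFCtx.h_ne_zero_symm h2) j hgw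
    intro x hx
    obtain ⟨e₁, he₁, e₂, he₂, h11, h22, a, b, rfl⟩ := ex_two_iso C.toFCtx (C.nd i) (hfr i) hx
    rw [map_add, map_smul, map_smul]
    exact (D j).add_mem ((D j).smul_mem _ (hiso e₁ he₁ h11)) ((D j).smul_mem _ (hiso e₂ he₂ h22))
  choose τ hτ using key
  have hinj : Function.Injective τ := by
    intro i i' hii
    by_contra hne
    have h1 : (D i).map (g : V →ₗ[K] V) = (D i').map (g : V →ₗ[K] V) := by
      rw [hτ, hτ, hii]
    have h2 : D i = D i' := Submodule.map_injective_of_injective g.injective h1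
    obtain ⟨e₀, he₀, he₀0, -⟩ := ex_iso C.toFCtx (C.nd i) (hfr i)
    exact he₀0 (hinter hne he₀ (h2 ▸ he₀))
  exact ⟨Equiv.ofBijective τ (Finite.injective_iff_bijective.1 hinj), hτ⟩

end Cfsg.Agent.Lib.Helper94.UDec
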