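/-
Helper94, project S5655 part 2, module [PROPER]: a unitary transvection whose centre is the sum of two
isotropic vectors of different members does not stabilise the decomposition.
-/
import Mathlib
import Cfsg.Agent.Lib.Helper94.UDec.Ex14

set_option autoImplicit false
set_option linter.unusedSectionVars false
set_option linter.unusedVariables false
set_option linter.unusedSimpArgs false

namespace Cfsg.Agent.Lib.Helper94.UDec

open Cfsg.Agent.Lib.Helper94 Cfsg.Agent.Lib.Helper94.SympData Module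

variable {K V : Type*} [Field K] [AddCommGroup V] [Module K V] [FiniteDimensional K V]
variable {σ : K →+* K} {h : V → V → K}
variable {t k : ℕ} {D : Fin t → Submodule K V}

/-- [PROPER] some isometry of determinant one does not stabilise the decomposition -/
theorem ex_not_stab (C : UCtx σ h k D) (ht : 2 ≤ t) : ∃ g ∈ UG h ⊓ SLe K V, g ∉ stabDec D := by
  obtain ⟨i0, hi0⟩ : ∃ i0 : Fin t, i0 = ⟨0, by omega⟩ := ⟨_, rfl⟩
  obtain ⟨i1, hi1⟩ : ∃ i1 : Fin t, i1 = ⟨1, by omega⟩ := ⟨_, rfl⟩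
  have h01 : i0 ≠ i1 := by rw [hi0, hi1]; intro h; simp [Fin.ext_iff] at h
  have hfr : ∀ i, 2 ≤ finrank K (D i) := fun i => by rw [C.ld.finrank_eq i]; exact C.two_le
  obtain ⟨ya, hya, hya0, hyaa⟩ := ex_iso C.toFCtx (C.nd i0) (hfr i0)
  obtain ⟨fa, hfa, hfafa, hyafa⟩ := ex_partner C.toFCtx (C.nd i0) hya hya0 hyaa
  obtain ⟨yb, hyb, hyb0, hybb⟩ := ex_iso C.toFCtx (C.nd i1) (hfr i1)
  obtain ⟨c₀, hc₀0, hc₀⟩ := C.tz
  have hyab : h ya yb = 0 := C.orth i0 i1 h01 ya hya yb hyb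
  have hyba : h yb ya = 0 := C.orth i1 i0 (Ne.symm h01) yb hyb ya hya
  have hpp : h (ya + yb) (ya + yb) = 0 := by
    rw [C.herm.add_left, C.herm.add_right, C.herm.add_right, hyaa, hybb, hyab, hyba]
    ring
  refine ⟨C.herm.utv (ya + yb) c₀ hpp,
    ⟨C.herm.utv_mem_UG _ c₀ hpp hc₀, C.herm.utv_mem_SLe _ c₀ hpp⟩, ?_⟩
  rintro ⟨τ, hτ⟩
  have hfap : h fa (ya + yb) = 1 := by
    rw [C.herm.add_right, C.herm.conj ya fa, hyafa, map_one,
      C.orth i0 i1 h01 fa hfa yb hyb, add_zero]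
  have himg : C.herm.utv (ya + yb) c₀ hpp fa = fa + c₀ • ya + c₀ • yb := by
    rw [C.herm.utv_apply, hfap, mul_one, smul_add, add_assoc]
  have hmem : fa + c₀ • ya + c₀ • yb ∈ D (τ i0) := by
    rw [← himg, ← hτ i0]
    exact ⟨fa, hfa, rfl⟩
  -- the two components
  have hp1 : C.ld.pr i1 (fa + c₀ • ya + c₀ • yb) = c₀ • yb := by
    rw [map_add, map_add, C.ld.pr_of_mem_ne h01 hfa, map_smul, map_smul,
      C.ld.pr_of_mem_ne h01 hya, C.ld.pr_of_mem hyb]
    simp
  have hp0 : C.ld.pr i0 (fa + c₀ • ya + c₀ • yb) = fa + c₀ • ya := by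
    rw [map_add, map_add, C.ld.pr_of_mem hfa, map_smul, map_smul, C.ld.pr_of_mem hya,
      C.ld.pr_of_mem_ne (Ne.symm h01) hyb]
    simp
  have e1 : τ i0 = i1 := by
    by_contra hne
    have hz : C.ld.pr i1 (fa + c₀ • ya + c₀ • yb) = 0 := C.ld.pr_of_mem_ne hne hmem
    rw [hp1] at hz
    exact smul_ne_zero hc₀0 hyb0 hz
  have e0 : τ i0 = i0 := by
    by_contra hne
    have hz : C.ld.pr i0 (fa + c₀ • ya + c₀ • yb) = 0 := C.ld.pr_of_mem_ne hne hmem
    rw [hp0] at hz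
    have : h ya (fa + c₀ • ya) = 0 := by rw [hz]; exact C.herm.zero_right _
    rw [C.herm.add_right, C.herm.smul_right, hyaa, hyafa] at this
    simp at this
  exact h01 (e0.symm.trans e1)

end Cfsg.Agent.Lib.Helper94.UDec
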