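/-
Helper94, project S5655 part 2, module [SW]: the swap of two members of the decomposition along an
isometry, its determinant corrected by a quasi-reflection; `H` is transitive on the ordered pairs of
distinct members.
-/
import Mathlib
import Cfsg.Agent.Lib.Helper94.UDec.Ex0
import Cfsg.Agent.Lib.Helper45.UDecQR

set_option autoImplicit false
set_option linter.unusedSectionVars false
set_option linter.unusedVariables false
set_option linter.unusedSimpArgs false

namespace Cfsg.Agent.Lib.Helper94.UDec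

open Cfsg.Agent.Lib.Helper94 Cfsg.Agent.Lib.Helper94.SympData Module

variable {K V : Type*} [Field K] [AddCommGroup V] [Module K V] [FiniteDimensional K V]
variable {σ : K →+* K} {h : V → V → K}
variable {t k : ℕ} {D : Fin t → Submodule K V}

section swap

variable (hD : LDecomp k D)

/-- the swap of the members `D i` and `D j` along `e`, as a linear map -/
noncomputable def swapLin {i j : Fin t} (e : D i ≃ₗ[K] D j) : V →ₗ[K] V :=
  LinearMap.id - hD.pr i - hD.pr j
    + (D j).subtype ∘ₗ e.toLinearMap ∘ₗ hD.proj i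
    + (D i).subtype ∘ₗ e.symm.toLinearMap ∘ₗ hD.proj j

lemma swapLin_apply {i j : Fin t} (e : D i ≃ₗ[K] D j) (x : V) :
    swapLin hD e x = x - hD.pr i x - hD.pr j x
      + ((e (hD.proj i x) : D j) : V) + ((e.symm (hD.proj j x) : D i) : V) := by
  simp [swapLin]

lemma pr_swapLin_left {i j : Fin t} (hij : i ≠ j) (e : D i ≃ₗ[K] D j) (x : V) :
    hD.pr i (swapLin hD e x) = ((e.symm (hD.proj j x) : D i) : V) := by
  rw [swapLin_apply, map_add, map_add, map_sub, map_sub, hD.pr_pr, hD.pr_pr_ne (Ne.symm hij),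
    hD.pr_of_mem_ne (Ne.symm hij) (e (hD.proj i x)).2, hD.pr_of_mem (e.symm (hD.proj j x)).2]
  simp

lemma pr_swapLin_right {i j : Fin t} (hij : i ≠ j) (e : D i ≃ₗ[K] D j) (x : V) :
    hD.pr j (swapLin hD e x) = ((e (hD.proj i x) : D j) : V) := by
  rw [swapLin_apply, map_add, map_add, map_sub, map_sub, hD.pr_pr, hD.pr_pr_ne hij,
    hD.pr_of_mem (e (hD.proj i x)).2, hD.pr_of_mem_ne hij (e.symm (hD.proj j x)).2]
  simp

lemma pr_swapLin_other {i j l : Fin t} (hli : l ≠ i) (hlj : l ≠ j) (e : D i ≃ₗ[K] D j) (x : V) :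
    hD.pr l (swapLin hD e x) = hD.pr l x := by
  rw [swapLin_apply, map_add, map_add, map_sub, map_sub, hD.pr_pr_ne (Ne.symm hli),
    hD.pr_pr_ne (Ne.symm hlj), hD.pr_of_mem_ne (Ne.symm hlj) (e (hD.proj i x)).2,
    hD.pr_of_mem_ne (Ne.symm hli) (e.symm (hD.proj j x)).2]
  simp

lemma swapLin_involutive {i j : Fin t} (hij : i ≠ j) (e : D i ≃ₗ[K] D j) :
    Function.Involutive (swapLin hD e) := by
  intro x
  have h1 : hD.proj i (swapLin hD e x) = e.symm (hD.proj j x) :=
    Subtype.ext (pr_swapLin_left hD hij e x)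
  have h2 : hD.proj j (swapLin hD e x) = e (hD.proj i x) :=
    Subtype.ext (pr_swapLin_right hD hij e x)
  rw [swapLin_apply hD e (swapLin hD e x), h1, h2, pr_swapLin_left hD hij,
    pr_swapLin_right hD hij, LinearEquiv.apply_symm_apply, LinearEquiv.symm_apply_apply,
    swapLin_apply]
  have e1 : ((hD.proj i x : D i) : V) = hD.pr i x := rfl
  have e2 : ((hD.proj j x : D j) : V) = hD.pr j x := rfl
  rw [e1, e2]
  abel

/-- the swap of the members `D i` and `D j` along `e` -/
noncomputable def swapEquiv {i j : Fin t} (hij : i ≠ j) (e : D i ≃ₗ[K] D j) : V ≃ₗ[K] V :=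
  LinearEquiv.ofInvolutive (swapLin hD e) (swapLin_involutive hD hij e)

lemma swapEquiv_apply {i j : Fin t} (hij : i ≠ j) (e : D i ≃ₗ[K] D j) (x : V) :
    swapEquiv hD hij e x = swapLin hD e x := rfl

lemma swapEquiv_mul_self {i j : Fin t} (hij : i ≠ j) (e : D i ≃ₗ[K] D j) :
    swapEquiv hD hij e * swapEquiv hD hij e = 1 := by
  ext x
  rw [LinearEquiv.mul_apply, swapEquiv_apply, swapEquiv_apply]
  exact swapLin_involutive hD hij e x

lemma swapEquiv_of_mem_left {i j : Fin t} (hij : i ≠ j) (e : D i ≃ₗ[K] D j) {x : V}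
    (hx : x ∈ D i) : swapEquiv hD hij e x ∈ D j := by
  have h1 : hD.pr i x = x := hD.pr_of_mem hx
  have h2 : hD.pr j x = 0 := hD.pr_of_mem_ne hij hx
  have h3 : hD.proj j x = 0 := Subtype.ext h2
  rw [swapEquiv_apply, swapLin_apply, h1, h2, h3]
  simp

lemma swapEquiv_of_mem_right {i j : Fin t} (hij : i ≠ j) (e : D i ≃ₗ[K] D j) {x : V}
    (hx : x ∈ D j) : swapEquiv hD hij e x ∈ D i := by
  have h1 : hD.pr j x = x := hD.pr_of_mem hx
  have h2 : hD.pr i x = 0 := hD.pr_of_mem_ne (Ne.symm hij) hx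
  have h3 : hD.proj i x = 0 := Subtype.ext h2
  rw [swapEquiv_apply, swapLin_apply, h1, h2, h3]
  simp

lemma swapEquiv_of_mem_other {i j l : Fin t} (hij : i ≠ j) (hli : l ≠ i) (hlj : l ≠ j)
    (e : D i ≃ₗ[K] D j) {x : V} (hx : x ∈ D l) : swapEquiv hD hij e x = x := by
  have h1 : hD.pr i x = 0 := hD.pr_of_mem_ne hli hx
  have h2 : hD.pr j x = 0 := hD.pr_of_mem_ne hlj hx
  have h3 : hD.proj i x = 0 := Subtype.ext h1
  have h4 : hD.proj j x = 0 := Subtype.ext h2
  rw [swapEquiv_apply, swapLin_apply, h1, h2, h3, h4]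
  simp

end swap

/-- the swap along an isometry is an isometry -/
lemma swapEquiv_mem_UG (C : UCtx σ h k D) {i j : Fin t} (hij : i ≠ j) (e : D i ≃ₗ[K] D j)
    (he : ∀ x y : D i, h ((e x : D j) : V) ((e y : D j) : V) = h (x : V) (y : V)) :
    swapEquiv C.ld hij e ∈ UG h := by
  classical
  have he' : ∀ x y : D j, h ((e.symm x : D i) : V) ((e.symm y : D i) : V) = h (x : V) (y : V) := by
    intro x y
    have := he (e.symm x) (e.symm y)
    rw [LinearEquiv.apply_symm_apply, LinearEquiv.apply_symm_apply] at this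
    exact this.symm
  intro x y
  rw [C.h_eq_sum (swapEquiv C.ld hij e x) (swapEquiv C.ld hij e y), C.h_eq_sum x y,
    ← Equiv.sum_comp (Equiv.swap i j) (fun l => h (C.ld.pr l x) (C.ld.pr l y))]
  apply Finset.sum_congr rfl
  intro l _
  rw [swapEquiv_apply, swapEquiv_apply]
  by_cases hli : l = i
  · subst hli
    rw [Equiv.swap_apply_left, pr_swapLin_left C.ld hij, pr_swapLin_left C.ld hij, he']
    rfl
  · by_cases hlj : l = j
    · subst hlj
      rw [Equiv.swap_apply_right, pr_swapLin_right C.ld hij, pr_swapLin_right C.ld hij, he]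
      rfl
    · rw [Equiv.swap_apply_of_ne_of_ne hli hlj, pr_swapLin_other C.ld hli hlj,
        pr_swapLin_other C.ld hli hlj]

/-- a swap of two members in `H` -/
theorem ex_swap_two (C : UCtx σ h k D)
    (hiso : ∀ i j, ∃ e : D i ≃ₗ[K] D j, ∀ x y : D i,
      h ((e x : D j) : V) ((e y : D j) : V) = h (x : V) (y : V))
    {i j : Fin t} (hij : i ≠ j) :
    ∃ g ∈ HG h D, (∀ x ∈ D i, g x ∈ D j) ∧ (∀ x ∈ D j, g x ∈ D i) ∧
      ∀ l, l ≠ i → l ≠ j → ∀ x ∈ D l, g x ∈ D l := by
  obtain ⟨e, he⟩ := hiso i j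
  obtain ⟨s, hs⟩ : ∃ s : V ≃ₗ[K] V, s = swapEquiv C.ld hij e := ⟨_, rfl⟩
  have hsU : s ∈ UG h := by rw [hs]; exact swapEquiv_mem_UG C hij e he
  have hss : s * s = 1 := by rw [hs]; exact swapEquiv_mul_self C.ld hij e
  -- the determinant of `s` is `±1`
  obtain ⟨η, hη⟩ : ∃ η : K, η = ((LinearEquiv.det s : Kˣ) : K) := ⟨_, rfl⟩
  have hηη : η * η = 1 := by
    have := congrArg (fun g => ((LinearEquiv.det g : Kˣ) : K)) hss
    simp only [map_mul, Units.val_mul, map_one, Units.val_one] at this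
    rw [hη]; exact this
  have hση : σ η = η := by
    have : (η - 1) * (η + 1) = 0 := by linear_combination hηη
    rcases mul_eq_zero.1 this with h1 | h1
    · have : η = 1 := by linear_combination h1
      rw [this, map_one]
    · have : η = -1 := by linear_combination h1
      rw [this, map_neg, map_one]
  -- correction by a quasi-reflection
  have hfr : 1 ≤ finrank K (D i) := by rw [C.ld.finrank_eq i]; have := C.two_le; omega
  obtain ⟨d, hd, hdd⟩ := ex_aniso C.toFCtx (C.nd i) hfr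
  obtain ⟨r, hrU, hrdet, hr⟩ := Cfsg.Agent.Lib.Helper45.UDec.ex_qrefl C.toFCtx hdd
    (η := η) (by rw [hση]; exact hηη)
  have hrD : ∀ l, ∀ x ∈ D l, r x ∈ D l := by
    intro l x hx
    rw [hr]
    by_cases hl : l = i
    · subst hl
      exact (D l).add_mem hx ((D l).smul_mem _ hd)
    · rw [C.orth l i hl x hx d hd, mul_zero, zero_div, zero_smul, add_zero]
      exact hx
  have hsi : ∀ x ∈ D i, s x ∈ D j := fun x hx => by
    rw [hs]; exact swapEquiv_of_mem_left C.ld hij e hx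
  have hsj : ∀ x ∈ D j, s x ∈ D i := fun x hx => by
    rw [hs]; exact swapEquiv_of_mem_right C.ld hij e hx
  have hsl : ∀ l, l ≠ i → l ≠ j → ∀ x ∈ D l, s x ∈ D l := fun l hli hlj x hx => by
    rw [hs, swapEquiv_of_mem_other C.ld hij hli hlj e hx]; exact hx
  refine ⟨s * r, ⟨?_, mul_mem hsU hrU, ?_⟩, ?_, ?_, ?_⟩
  · -- stabilises the decomposition
    refine ⟨Equiv.swap i j, fun l => ?_⟩
    apply map_eq_of_maps_into C.ld
    intro x hx
    rw [LinearEquiv.mul_apply]
    by_cases hli : l = i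
    · subst hli
      rw [Equiv.swap_apply_left]
      exact hsi _ (hrD l x hx)
    · by_cases hlj : l = j
      · subst hlj
        rw [Equiv.swap_apply_right]
        exact hsj _ (hrD l x hx)
      · rw [Equiv.swap_apply_of_ne_of_ne hli hlj]
        exact hsl l hli hlj _ (hrD l x hx)
  · show s * r ∈ SLe K V
    rw [SympData.mem_SLe, map_mul]
    apply Units.ext
    rw [Units.val_mul, hrdet, ← hη, Units.val_one, hηη]
  · intro x hx
    rw [LinearEquiv.mul_apply]
    exact hsi _ (hrD i x hx)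
  · intro x hx
    rw [LinearEquiv.mul_apply]
    exact hsj _ (hrD j x hx)
  · intro l hli hlj x hx
    rw [LinearEquiv.mul_apply]
    exact hsl l hli hlj _ (hrD l x hx)

/-- [SW] `H` is transitive on the ordered pairs of distinct members -/
theorem ex_swap (C : UCtx σ h k D)
    (hiso : ∀ i j, ∃ e : D i ≃ₗ[K] D j, ∀ x y : D i,
      h ((e x : D j) : V) ((e y : D j) : V) = h (x : V) (y : V))
    {a b a' b' : Fin t} (hab : a ≠ b) (hab' : a' ≠ b') :
    ∃ g ∈ HG h D, (∀ x ∈ D a, g x ∈ D a') ∧ (∀ x ∈ D b, g x ∈ D b') := by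
  -- first step: move `a` to `a'`
  obtain ⟨g₁, hg₁, b₁, hb₁, hg₁a, hg₁b⟩ : ∃ g₁ ∈ HG h D, ∃ b₁ : Fin t, b₁ ≠ a' ∧
      (∀ x ∈ D a, g₁ x ∈ D a') ∧ (∀ x ∈ D b, g₁ x ∈ D b₁) := by
    by_cases haa : a = a'
    · subst haa
      exact ⟨1, one_mem _, b, Ne.symm hab, fun x hx => hx, fun x hx => hx⟩
    · obtain ⟨g, hg, h1, h2, h3⟩ := ex_swap_two C hiso haa
      by_cases hba : b = a'
      · subst hba
        exact ⟨g, hg, a, haa, h1, h2⟩
      · exact ⟨g, hg, b, hba, h1, h3 b (Ne.symm hab) hba⟩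
  -- second step: move `b₁` to `b'`, fixing `a'`
  by_cases hbb : b₁ = b'
  · subst hbb
    exact ⟨g₁, hg₁, hg₁a, hg₁b⟩
  · obtain ⟨g₂, hg₂, h1, h2, h3⟩ := ex_swap_two C hiso hbb
    refine ⟨g₂ * g₁, mul_mem hg₂ hg₁, ?_, ?_⟩
    · intro x hx
      rw [LinearEquiv.mul_apply]
      exact h3 a' (Ne.symm hb₁) hab' _ (hg₁a x hx)
    · intro x hx
      rw [LinearEquiv.mul_apply]
      exact h1 _ (hg₁b x hx)

end Cfsg.Agent.Lib.Helper94.UDec
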