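/-
Helper94, project S5655 part 2, assembly: the stabiliser of an orthogonal decomposition into
non-degenerate subspaces of dimension `k ≥ 2` is maximal in the special unitary group (abstract form),
relative to the two modules [C1B], [C2R].
-/
import Mathlib
import Cfsg.Agent.Lib.Helper94.UDec.B2
import Cfsg.Agent.Lib.Helper94.UDec.C1A
import Cfsg.Agent.Lib.Helper94.UDec.Swap
import Cfsg.Agent.Lib.Helper94.UDec.Proper
import Cfsg.Agent.Lib.Helper11.UDecEx8
import Cfsg.Agent.Lib.Helper45.UDecC2I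
import Cfsg.Agent.Lib.Helper51.UDecEx7
import Cfsg.Agent.Lib.Helper52.UDecInd

set_option autoImplicit false
set_option linter.unusedSectionVars false
set_option linter.unusedVariables false

namespace Cfsg.Agent.Lib.Helper94.UDec

open Cfsg.Agent.Lib.Helper94 Cfsg.Agent.Lib.Helper94.SympData Module

variable {K V : Type*} [Field K] [AddCommGroup V] [Module K V] [FiniteDimensional K V]
variable {σ : K →+* K} {h : V → V → K}
variable {t k : ℕ} {D : Fin t → Submodule K V}

/-- a vector lying in no member has two non-zero components -/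
lemma exists_two_components (C : UCtx σ h k D) (ht : 2 ≤ t) {x : V} (hx : ∀ i, x ∉ D i) :
    ∃ a b : Fin t, a ≠ b ∧ C.ld.pr a x ≠ 0 ∧ C.ld.pr b x ≠ 0 := by
  have hx0 : x ≠ 0 := by
    rintro rfl
    exact hx ⟨0, by omega⟩ (Submodule.zero_mem _)
  obtain ⟨a, ha⟩ : ∃ a, C.ld.pr a x ≠ 0 := by
    by_contra hno
    push Not at hno
    exact hx0 (C.ld.eq_zero_of_pr hno)
  by_contra hno
  push Not at hno
  apply hx a
  have : x = C.ld.pr a x := by
    conv_lhs => rw [← C.ld.sum_pr x]
    rw [Finset.sum_eq_single a]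
    · intro b _ hba
      by_contra hb
      exact hb (hno a b (Ne.symm hba) ha)
    · intro h'
      exact absurd (Finset.mem_univ a) h'
  rw [this]
  exact C.ld.pr_mem a x

/-- the statement of the module [C1B] -/
def StC1B (C : UCtx σ h k D) : Prop :=
  ∀ {M : Subgroup (V ≃ₗ[K] V)}, M ≤ UG h → HG h D ≤ M → 3 ≤ k → ∀ {x : V}, x ∈ UXa C.herm M →
    ∀ {a b : Fin t}, a ≠ b → C.ld.pr a x ≠ 0 → C.ld.pr b x ≠ 0 → HasPair C M a b

/-- the statement of the module [C2R] -/
def StC2R (C : UCtx σ h k D) : Prop :=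
  ∀ {M : Subgroup (V ≃ₗ[K] V)}, M ≤ UG h → HG h D ≤ M → (3 ≤ t ∨ 3 ≤ k) → ∀ {a b : Fin t}, a ≠ b →
    ∀ {u v : V}, u ∈ D a → v ∈ D b → u ≠ 0 → v ≠ 0 → h u u = 0 → h v v = 0 →
      u + v ∈ UXa C.herm M → ∀ {ζ : K}, ζ ≠ 0 → u + ζ • v ∈ UXa C.herm M

/-- **Maximality of the stabiliser of an orthogonal decomposition in the special unitary group**
(abstract form), relative to [C1B] and [C2R]. -/
theorem udec_isMaximalIn_of (C : UCtx σ h k D) (hC1B : StC1B C) (hC2R : StC2R C) (ht : 2 ≤ t)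
    (hroom : 3 ≤ t ∨ 3 ≤ k)
    (hcase : 3 ≤ k ∨ ∀ μ : K, ∃ l : K, σ l = l ∧ l ≠ 0 ∧ l ≠ μ)
    (hiso : ∀ i j, ∃ e : D i ≃ₗ[K] D j, ∀ x y : D i,
      h ((e x : D j) : V) ((e y : D j) : V) = h (x : V) (y : V))
    (hgen : ∀ M : Subgroup (V ≃ₗ[K] V),
      (∀ (v : V) (hv : h v v = 0) (c : K), c + σ c = 0 → C.herm.utv v c hv ∈ M) →
        UG h ⊓ SLe K V ≤ M) :
    Cfsg.Geo.IsMaximalIn (UG h ⊓ SLe K V) (HG h D) := by
  refine ⟨?_, ?_⟩
  · rw [SetLike.lt_iff_le_and_exists]
    refine ⟨inf_le_right, ?_⟩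
    obtain ⟨g, hg, hgS⟩ := ex_not_stab C ht
    exact ⟨g, hg, fun hgH => hgS hgH.1⟩
  · intro M hHM hMU'
    have hMU : M ≤ UG h := hMU'.trans inf_le_left
    by_cases hle : M ≤ stabDec D
    · left
      exact le_antisymm (le_inf hle hMU') hHM
    · right
      -- a mixed vector
      obtain ⟨x, hxX, hx⟩ : ∃ x ∈ UXa C.herm M, ∀ i, x ∉ D i := by
        by_contra hno
        push Not at hno
        exact hle (le_stabDec C hMU hHM hno)
      obtain ⟨a, b, hab, hxa, hxb⟩ := exists_two_components C ht hx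
      have hP : HasPair C M a b := by
        rcases hcase with hk | hq
        · exact hC1B hMU hHM hk hxX hab hxa hxb
        · exact pair_of_mixed_q C hMU hHM hq hxX hab hxa hxb
      have hI := fun u hu v hv huu hvv =>
        Cfsg.Agent.Lib.Helper45.UDec.pair_iso_all_of C hMU hHM
          (fun {a b} hab {u v} hu hv hu0 hv0 huu hvv huv {ζ} hζ =>
            hC2R hMU hHM hroom hab hu hv hu0 hv0 huu hvv huv hζ)
          hab hP (u := u) (v := v) hu hv huu hvv
      have hab_all := fun u hu v hv huv =>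
        Cfsg.Agent.Lib.Helper11.UDec.pair_all C hMU hHM hab hI (u := u) (v := v) hu hv huv
      -- all pairs of members
      have hall : ∀ a' b' : Fin t, a' ≠ b' → ∀ u ∈ D a', ∀ v ∈ D b', h (u + v) (u + v) = 0 →
          u + v ∈ UXa C.herm M := by
        intro a' b' hab' u hu v hv huv
        obtain ⟨g, hgH, hga, hgb⟩ := ex_swap C hiso hab hab'
        have hgM : g ∈ M := hHM hgH
        have hgU : g ∈ UG h := hgH.2.1
        have ea := map_eq_of_maps_into C.ld hga
        have eb := map_eq_of_maps_into C.ld hgb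
        rw [← ea] at hu
        rw [← eb] at hv
        obtain ⟨u₀, hu₀, rfl⟩ := hu
        obtain ⟨v₀, hv₀, rfl⟩ := hv
        have h0 : h (u₀ + v₀) (u₀ + v₀) = 0 := by
          rw [← hgU (u₀ + v₀) (u₀ + v₀), map_add]
          exact huv
        have := uxa_map C.herm hgM hgU (hab_all u₀ hu₀ v₀ hv₀ h0)
        rwa [map_add] at this
      have hX : ∀ x, h x x = 0 → x ∈ UXa C.herm M := fun x hxx =>
        Cfsg.Agent.Lib.Helper52.UDec.all_of_pairs_of
          (fun {W} hW hk {x} hx hx0 ρ β hρ hcase' =>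
            Cfsg.Agent.Lib.Helper51.UDec.ex_norm_prod C.toFCtx hW hk hx hx0 ρ β hρ hcase')
          C hMU hHM hcase hall hxx
      apply le_antisymm hMU'
      apply hgen M
      intro v hv c hc
      obtain ⟨_, h1⟩ := hX v hv
      exact h1 c hc

end Cfsg.Agent.Lib.Helper94.UDec
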