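/-
Helper94, project S5655 part 2, bridge (part A): the standard unitary form `hermForm n F q` over the
field with `q²` elements satisfies the abstract hypotheses `FCtx`, a Prelude decomposition gives `UCtx`,
and the generation of `SU_n` by unitary transvections (helper37) in the abstract vocabulary.
-/
import Mathlib
import Cfsg.Prelude.Def_GeometricClasses
import Cfsg.Agent.Lib.Helper94.UDec.Core
import Cfsg.Agent.Lib.Helper94.UnitBridge
import Cfsg.Agent.Lib.Helper37.UnitaryGen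
import Cfsg.Agent.Lib.Helper13.UnitMaxBridge

set_option autoImplicit false
set_option linter.unusedSectionVars false
set_option linter.unusedVariables false
set_option linter.unusedSimpArgs false

namespace Cfsg.Agent.Lib.Helper94.UDec

open Cfsg.Agent.Lib.Helper94 Cfsg.Agent.Lib.Helper94.SympData Module
open Matrix Cfsg.Agent.S0837 Cfsg.Agent.S0781 Cfsg.Agent.S2644

variable {F : Type*} [Field F]

/-- the standard unitary form is hermitian for the Frobenius map `x ↦ x ^ q` -/
lemma hermData_hermForm (n q : ℕ) (σ : F →+* F) (hσ : ∀ x, σ x = x ^ q) (hσ2 : ∀ a, σ (σ a) = a) :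
    HermData σ (Cfsg.hermForm n F q) := by
  have e : Cfsg.hermForm n F q = hf σ := funext₂ (hermForm_eq_hf σ hσ)
  rw [e]
  refine ⟨?_, ?_, ?_, ?_, ?_, ?_⟩
  · intro x y z; exact hf_add_left σ x y z
  · intro c x y; exact hf_smul_left σ c x y
  · intro x y z; exact hf_add_right σ x y z
  · intro c x y; exact hf_smul_right σ c x y
  · intro x y; exact hf_symm σ hσ2 y x
  · intro a b; exact map_mul σ a b

/-- the field part of the context for the standard unitary form -/
lemma fctx_hermForm [Fintype F] (n q : ℕ) (hF : Fintype.card F = q ^ 2) (σ : F →+* F)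
    (hσ : ∀ x, σ x = x ^ q) (hσ2 : ∀ a, σ (σ a) = a) : FCtx σ (Cfsg.hermForm n F q) := by
  have hne : σ ≠ RingHom.id F := frob_ne_id σ hF hσ
  exact ⟨hermData_hermForm n q σ hσ hσ2, hσ2, fun a ha => trace_surj σ hne hσ2 a ha,
    fun a ha => Cfsg.Agent.Lib.Helper36.exists_mul_map_eq σ hne hσ2 a ha,
    Cfsg.Agent.Lib.Helper37.exists_trace_zero_ne σ hne hσ2⟩

/-- a Prelude decomposition gives the abstract context -/
lemma uctx_of_prelude [Fintype F] (n q : ℕ) (hF : Fintype.card F = q ^ 2) (σ : F →+* F)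
    (hσ : ∀ x, σ x = x ^ q) (hσ2 : ∀ a, σ (σ a) = a) {t k : ℕ} (hk : 2 ≤ k)
    (D : Fin t → Submodule F (Fin n → F))
    (hD : Cfsg.Geo.IsNondegenerateMDecomposition (Cfsg.hermForm n F q) k D) :
    UCtx σ (Cfsg.hermForm n F q) k D := by
  refine { toFCtx := fctx_hermForm n q hF σ hσ hσ2, ld := ⟨hD.decomp.finrank_eq, hD.decomp.indep,
    hD.decomp.iSup_eq_top⟩, orth := ?_, nd := ?_, two_le := hk }
  · intro i j hij u hu v hv
    exact hD.orthogonal i j hij u hu v hv
  · intro i x hx hxy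
    by_contra hx0
    obtain ⟨_, y, hy, hne⟩ := hD.nondegenerate i x hx hx0
    exact hne (hxy y hy)

/-- the matrix transvection of helper37 is the abstract unitary transvection -/
lemma glEquiv_tvGL (n q : ℕ) (σ : F →+* F) (hσ : ∀ x, σ x = x ^ q) (hσ2 : ∀ a, σ (σ a) = a)
    (z : Fin n → F) (c : F) (hz : hf σ z z = 0) (hz' : Cfsg.hermForm n F q z z = 0) :
    glEquiv (Fin n) F (Cfsg.Agent.Lib.Helper37.tvGL σ z c hz) =
      (hermData_hermForm n q σ hσ hσ2).utv z c hz' := by
  ext x : 1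
  rw [glEquiv_apply, HermData.utv_apply]
  show tv σ z c *ᵥ x = _
  rw [tv_mulVec, hermForm_eq_hf σ hσ]

/-- **generation**: a subgroup containing all unitary transvections contains `SU_n` (`n ≥ 4`) -/
theorem hgen_hermForm [Fintype F] (n q : ℕ) (hF : Fintype.card F = q ^ 2) (hn : 4 ≤ n)
    (σ : F →+* F) (hσ : ∀ x, σ x = x ^ q) (hσ2 : ∀ a, σ (σ a) = a)
    (M : Subgroup ((Fin n → F) ≃ₗ[F] (Fin n → F)))
    (hM : ∀ (v : Fin n → F) (hv : Cfsg.hermForm n F q v v = 0) (c : F), c + σ c = 0 →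
      (hermData_hermForm n q σ hσ hσ2).utv v c hv ∈ M) :
    UG (Cfsg.hermForm n F q) ⊓ SLe F (Fin n → F) ≤ M := by
  have hne : σ ≠ RingHom.id F := frob_ne_id σ hF hσ
  intro e he
  rw [← map_GU, ← map_specialLinear, ← map_inf_equiv] at he
  obtain ⟨g, hg, rfl⟩ := he
  have hgU : g ∈ Cfsg.Agent.Lib.Helper37.UG σ n :=
    (Cfsg.Agent.Lib.Helper13.mem_GU_iff_mem_UG σ hσ g).1 hg.1
  have hgdet : (g : Matrix (Fin n) (Fin n) F).det = 1 :=
    (Cfsg.Agent.Lib.Helper13.mem_specialLinear_iff g).1 hg.2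
  have hgT := Cfsg.Agent.Lib.Helper37.su_gen σ hne hσ2 n (by omega) (by omega) g hgU hgdet
  have hle : Cfsg.Agent.Lib.Helper37.TG σ n ≤ M.comap (glEquiv (Fin n) F).toMonoidHom := by
    unfold Cfsg.Agent.Lib.Helper37.TG
    rw [Subgroup.closure_le]
    rintro g' ⟨z, c, hz, hc, hg'⟩
    have hz' : Cfsg.hermForm n F q z z = 0 := by rw [hermForm_eq_hf σ hσ]; exact hz
    have e1 : g' = Cfsg.Agent.Lib.Helper37.tvGL σ z c hz := Units.ext hg'
    show (glEquiv (Fin n) F) g' ∈ M
    rw [e1, glEquiv_tvGL n q σ hσ hσ2 z c hz hz']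
    exact hM z hz' c hc
  exact hle hgT

end Cfsg.Agent.Lib.Helper94.UDec
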