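/-
Helper94, project S5655 part 2, bridge (part B), module [ISO]: the members of a Prelude decomposition
of the standard unitary space are pairwise isometric (orthonormal bases, helper36).
-/
import Mathlib
import Cfsg.Agent.Lib.Helper94.UDec.BridgeA
import Cfsg.Agent.Lib.Helper36.HermOrtho

set_option autoImplicit false
set_option linter.unusedSectionVars false
set_option linter.unusedVariables false
set_option linter.unusedSimpArgs false

namespace Cfsg.Agent.Lib.Helper94.UDec

open Cfsg.Agent.Lib.Helper94 Cfsg.Agent.Lib.Helper94.SympData Module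
open Matrix Cfsg.Agent.S0837 Cfsg.Agent.S0781 Cfsg.Agent.S2644

section abstract

variable {K V : Type*} [Field K] [AddCommGroup V] [Module K V]
variable {σ : K →+* K} {h : V → V → K}

/-- the form on combinations of an orthonormal family -/
lemma h_orthonormal_sum (hH : HermData σ h) {k : ℕ} (u : Fin k → V)
    (hu : ∀ l m, h (u l) (u m) = if l = m then 1 else 0) (a b : Fin k → K) :
    h (∑ l, a l • u l) (∑ m, b m • u m) = ∑ l, a l * σ (b l) := by
  rw [h_sum_left hH]
  apply Finset.sum_congr rfl
  intro l _
  rw [h_sum_right hH, Finset.sum_eq_single l]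
  · rw [hH.smul_left, hH.smul_right, hu l l, if_pos rfl]
    ring
  · intro m _ hml
    rw [hH.smul_left, hH.smul_right, hu l m, if_neg (Ne.symm hml)]
    ring
  · intro hl
    exact absurd (Finset.mem_univ l) hl

end abstract

variable {F : Type*} [Field F]

/-- [ISO] the members of a decomposition of the standard unitary space are pairwise isometric -/
theorem hiso_hermForm [Fintype F] (n q : ℕ) (hF : Fintype.card F = q ^ 2) (σ : F →+* F)
    (hσ : ∀ x, σ x = x ^ q) (hσ2 : ∀ a, σ (σ a) = a) {t k : ℕ}
    (D : Fin t → Submodule F (Fin n → F))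
    (hD : Cfsg.Geo.IsNondegenerateMDecomposition (Cfsg.hermForm n F q) k D) (i j : Fin t) :
    ∃ e : D i ≃ₗ[F] D j, ∀ x y : D i,
      Cfsg.hermForm n F q ((e x : D j) : Fin n → F) ((e y : D j) : Fin n → F) =
        Cfsg.hermForm n F q (x : Fin n → F) (y : Fin n → F) := by
  classical
  have hne : σ ≠ RingHom.id F := frob_ne_id σ hF hσ
  have hH := hermData_hermForm n q σ hσ hσ2
  -- an orthonormal basis of every member, indexed by `Fin k`
  have hbas : ∀ i : Fin t, ∃ b : Basis (Fin k) F (D i), ∀ l m,
      Cfsg.hermForm n F q ((b l : D i) : Fin n → F) ((b m : D i) : Fin n → F) =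
        if l = m then 1 else 0 := by
    intro i
    have hnd : ∀ u ∈ D i, (∀ v ∈ D i, hf σ u v = 0) → u = 0 := by
      intro u hu huv
      by_contra hu0
      obtain ⟨_, y, hy, hne'⟩ := hD.nondegenerate i u hu hu0
      apply hne'
      rw [hermForm_eq_hf σ hσ]
      exact huv y hy
    obtain ⟨b, hb⟩ := Cfsg.Agent.Lib.Helper36.exists_orthonormal_basis σ hne hσ2
      ((BV σ n).domRestrict₁₂ (D i) (D i)) (BW_symm σ hσ2 (D i)) (BW_nondeg σ hσ2 (D i) hnd)
    have hfr : finrank F (D i) = k := hD.decomp.finrank_eq i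
    refine ⟨b.reindex (finCongr hfr), fun l m => ?_⟩
    have := hb ((finCongr hfr).symm m) ((finCongr hfr).symm l)
    rw [LinearMap.domRestrict₁₂_apply, BV_apply] at this
    rw [hermForm_eq_hf σ hσ, Basis.reindex_apply, Basis.reindex_apply, this]
    by_cases hlm : l = m
    · subst hlm; simp
    · rw [if_neg hlm, if_neg]
      intro h'
      exact hlm ((finCongr hfr).symm.injective h').symm
  obtain ⟨bi, hbi⟩ := hbas i
  obtain ⟨bj, hbj⟩ := hbas j
  refine ⟨bi.equiv bj (Equiv.refl _), fun x y => ?_⟩
  have hx : ∀ z : D i, ((z : D i) : Fin n → F) = ∑ l, bi.repr z l • ((bi l : D i) : Fin n → F) := by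
    intro z
    conv_lhs => rw [← bi.sum_repr z]
    rw [Submodule.coe_sum]
    rfl
  have hex : ∀ z : D i, ((bi.equiv bj (Equiv.refl _) z : D j) : Fin n → F) =
      ∑ l, bi.repr z l • ((bj l : D j) : Fin n → F) := by
    intro z
    conv_lhs => rw [← bi.sum_repr z]
    rw [map_sum, Submodule.coe_sum]
    apply Finset.sum_congr rfl
    intro l _
    rw [map_smul, Basis.equiv_apply]
    rfl
  rw [hex x, hex y, hx x, hx y, h_orthonormal_sum hH _ hbj, h_orthonormal_sum hH _ hbi]

end Cfsg.Agent.Lib.Helper94.UDec
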