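/-
Helper94, project S5655 part 2, module [FIX]: in the field with `q²` elements, `q ≥ 3`, the fixed field
of `x ↦ x ^ q` has a non-zero element different from any given element.
-/
import Mathlib

set_option autoImplicit false

namespace Cfsg.Agent.Lib.Helper94.UDec

variable {F : Type*} [Field F]

/-- a fixed element different from `0` and `1` -/
theorem exists_fixed_ne_one [Fintype F] {q : ℕ} (hF : Fintype.card F = q ^ 2) (hq : 3 ≤ q)
    (σ : F →+* F) (hσ : ∀ x, σ x = x ^ q) : ∃ l : F, σ l = l ∧ l ≠ 0 ∧ l ≠ 1 := by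
  classical
  obtain ⟨g, hg⟩ := IsCyclic.exists_generator (α := Fˣ)
  have hord : orderOf g = q ^ 2 - 1 := by
    rw [orderOf_eq_card_of_forall_mem_zpowers hg, Nat.card_eq_fintype_card, Fintype.card_units, hF]
  have hq2 : q + 1 < q ^ 2 - 1 := by
    have : 3 * q ≤ q ^ 2 := by nlinarith
    omega
  refine ⟨((g ^ (q + 1) : Fˣ) : F), ?_, Units.ne_zero _, ?_⟩
  · rw [hσ, ← Units.val_pow_eq_pow_val, ← pow_mul]
    have e : (q + 1) * q = (q ^ 2 - 1) + (q + 1) := by
      have : (q + 1) * q = q ^ 2 + q := by ring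
      omega
    rw [e, pow_add, ← hord, pow_orderOf_eq_one, one_mul]
  · intro h1
    have h1' : g ^ (q + 1) = 1 := Units.ext h1
    have hdvd := orderOf_dvd_of_pow_eq_one h1'
    rw [hord] at hdvd
    have := Nat.le_of_dvd (by omega) hdvd
    omega

/-- [FIX] a non-zero fixed element different from a given element -/
theorem exists_fixed_ne [Fintype F] {q : ℕ} (hF : Fintype.card F = q ^ 2) (hq : 3 ≤ q)
    (σ : F →+* F) (hσ : ∀ x, σ x = x ^ q) (μ : F) : ∃ l : F, σ l = l ∧ l ≠ 0 ∧ l ≠ μ := by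
  by_cases hμ : μ = 1
  · obtain ⟨l, h1, h2, h3⟩ := exists_fixed_ne_one hF hq σ hσ
    exact ⟨l, h1, h2, by rw [hμ]; exact h3⟩
  · exact ⟨1, map_one σ, one_ne_zero, fun h => hμ h.symm⟩

end Cfsg.Agent.Lib.Helper94.UDec
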