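/-
Helper94, project S5655 part 2, bridge (final, relative to the modules [C1B], [C2R]): the frozen
statement of S5655 with the extra hypothesis `2 ≤ k`.
-/
import Mathlib
import Cfsg.Agent.Lib.Helper94.UDec.AsmOf
import Cfsg.Agent.Lib.Helper94.UDec.BridgeB
import Cfsg.Agent.Lib.Helper94.UDec.Fix
import Cfsg.Agent.Lib.Helper13.Herm

set_option autoImplicit false
set_option linter.unusedSectionVars false
set_option linter.unusedVariables false

namespace Cfsg.Agent.Lib.Helper94.UDec

open Cfsg.Agent.Lib.Helper94 Cfsg.Agent.Lib.Helper94.SympData Module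

/-- the frozen statement of S5655 with `2 ≤ k`, relative to [C1B] and [C2R] -/
theorem decomp_isMaximalIn_of_two_le_of {F : Type*} [Field F] [Fintype F] (n q : ℕ)
    (hF : Fintype.card F = q ^ 2) (hn : 13 ≤ n) {t : ℕ} (k : ℕ) (hk : 2 ≤ k)
    (D : Fin t → Submodule F (Fin n → F))
    (hD : Cfsg.Geo.IsNondegenerateMDecomposition (Cfsg.hermForm n F q) k D)
    (hex : ¬ (k = 2 ∧ q = 2))
    (hmods : ∀ (σ : F →+* F) (C : UCtx σ (Cfsg.hermForm n F q) k D), StC1B C ∧ StC2R C) :
    Cfsg.Geo.IsMaximalIn (Cfsg.GU n F q ⊓ Cfsg.Geo.specialLinear (Fin n) F)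
      (Cfsg.Geo.decompositionStabilizer D ⊓
        (Cfsg.GU n F q ⊓ Cfsg.Geo.specialLinear (Fin n) F)) := by
  classical
  obtain ⟨σ, hσ, hσ2⟩ := Cfsg.Agent.Lib.Helper13.exists_frob hF
  have C := uctx_of_prelude n q hF σ hσ hσ2 hk D hD
  have ht : 2 ≤ t := hD.decomp.two_le
  -- the dimension count
  have hint : DirectSum.IsInternal D :=
    DirectSum.isInternal_submodule_of_iSupIndep_of_iSup_eq_top hD.decomp.indep
      hD.decomp.iSup_eq_top
  have hdim : t * k = n := by
    have h1 : Module.finrank F (Fin n → F) = n := by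
      rw [Module.finrank_fintype_fun_eq_card]; simp
    have h3 : Module.finrank F (Fin n → F) = ∑ i, Module.finrank F (D i) := by
      rw [← (LinearEquiv.ofBijective (DirectSum.coeLinearMap D) hint).finrank_eq,
        Module.finrank_directSum]
    rw [h1, Finset.sum_congr rfl (fun i _ => hD.decomp.finrank_eq i)] at h3
    simp at h3
    omega
  have hroom : 3 ≤ t ∨ 3 ≤ k := by
    by_contra hno
    push Not at hno
    have h1 : t ≤ 2 := by omega
    have h2 : k ≤ 2 := by omega
    have : t * k ≤ 2 * 2 := Nat.mul_le_mul h1 h2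
    omega
  have hcase : 3 ≤ k ∨ ∀ μ : F, ∃ l : F, σ l = l ∧ l ≠ 0 ∧ l ≠ μ := by
    by_cases hk3 : 3 ≤ k
    · exact Or.inl hk3
    · right
      have hk2 : k = 2 := by omega
      have hq2 : q ≠ 2 := fun h => hex ⟨hk2, h⟩
      have hcard : 1 < Fintype.card F := Fintype.one_lt_card
      have hq3 : 3 ≤ q := by
        rw [hF] at hcard
        rcases Nat.lt_or_ge q 3 with h | h
        · interval_cases q
          · simp at hcard
          · simp at hcard
          · exact absurd rfl hq2
        · exact h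
      exact fun μ => exists_fixed_ne hF hq3 σ hσ μ
  obtain ⟨hC1B, hC2R⟩ := hmods σ C
  apply isMaximalIn_of_map (glEquiv (Fin n) F)
  rw [map_inf_equiv, map_inf_equiv, map_inf_equiv, map_decompositionStabilizer, map_GU,
    map_specialLinear]
  exact udec_isMaximalIn_of C hC1B hC2R ht hroom hcase
    (hiso_hermForm n q hF σ hσ hσ2 D hD)
    (fun M hM => hgen_hermForm n q hF (by omega) σ hσ hσ2 M hM)

end Cfsg.Agent.Lib.Helper94.UDec
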