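/-
Helper94, project S5655 part 2, final assembly: for `k ≥ 2` the stabiliser of a decomposition of the
standard unitary space `F^n` (`|F| = q²`, `n ≥ 13`) into pairwise orthogonal non-degenerate subspaces of
dimension `k` is maximal in `SU_n(q)`, unless `k = 2` and `q = 2`.  This is the frozen statement of
S5655 with the extra hypothesis `2 ≤ k` (the case `k = 1` is helper70's).

Modules: [CORE] [EX0] [EX14] [B1] [B2] [C1A] [SW] [PROPER] [FIX] [ISO] [GEN] (helper94), [EX56] [EX7] [EX8]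
(helper51), [DIL] [QR] [TR] [C2I] (helper45), [SG] [C2N] (helper11), [IND] (helper52), [C1B] [C2R]
(helper33).
-/
import Mathlib
import Cfsg.Agent.Lib.Helper94.UDec.BridgeOf
import Cfsg.Agent.Lib.Helper33.UDecC1B
import Cfsg.Agent.Lib.Helper33.UDecC2R
import Cfsg.Agent.Lib.Helper11.UDecSG

set_option autoImplicit false
set_option linter.unusedSectionVars false
set_option linter.unusedVariables false

namespace Cfsg.Agent.Lib.Helper94.UDec

open Cfsg.Agent.Lib.Helper94 Cfsg.Agent.Lib.Helper94.SympData Module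

/-- **S5655 for `k ≥ 2`**: the frozen statement with the extra hypothesis `2 ≤ k`. -/
theorem decomp_isMaximalIn_of_two_le {F : Type*} [Field F] [Fintype F] (n q : ℕ)
    (hF : Fintype.card F = q ^ 2) (hn : 13 ≤ n) {t : ℕ} (k : ℕ) (hk : 2 ≤ k)
    (D : Fin t → Submodule F (Fin n → F))
    (hD : Cfsg.Geo.IsNondegenerateMDecomposition (Cfsg.hermForm n F q) k D)
    (hex : ¬ (k = 2 ∧ q = 2)) :
    Cfsg.Geo.IsMaximalIn (Cfsg.GU n F q ⊓ Cfsg.Geo.specialLinear (Fin n) F)
      (Cfsg.Geo.decompositionStabilizer D ⊓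
        (Cfsg.GU n F q ⊓ Cfsg.Geo.specialLinear (Fin n) F)) := by
  apply decomp_isMaximalIn_of_two_le_of n q hF hn k hk D hD hex
  intro σ C
  refine ⟨?_, ?_⟩
  · intro M hMU hHM hk3 x hx a b hab hxa hxb
    exact Cfsg.Agent.Lib.Helper33.UDec.pair_of_mixed_k_of C
      (fun {z u} hzz huz {β} hβ => Cfsg.Agent.Lib.Helper11.UDec.ex_siegel C.toFCtx hzz huz hβ)
      hMU hHM hk3 hx hab hxa hxb
  · intro M hMU hHM hroom a b hab u v hu hv hu0 hv0 huu hvv huv ζ hζ
    exact Cfsg.Agent.Lib.Helper33.UDec.pair_ratio C hMU hHM hroom hab hu hv hu0 hv0 huu hvv huv hζ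

end Cfsg.Agent.Lib.Helper94.UDec
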